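import Mathlib
import Cfsg.Agent.H140.OreO.Frame
import Cfsg.Agent.H160.QSpin
import Cfsg.Agent.ClassicalGeometry.TwoFamilies
set_option linter.all false

-- part: H141/SpinFacts
section
/-!
# Spinor norm and Dickson invariant on model spaces (helper141, for the Ore-Omega project)

* `hom_eq_one` : a homomorphism `O Q →* A`, `A` commutative, kills `⁅O Q, O Q⁆`;
* `det_eq_one`, `isSquare_of_refl_mul_refl` : facts F2, F1;
* `chi`, `chi_mul` : the quadratic character with values in `ℤˣ`.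
-/

set_option autoImplicit false
set_option linter.unusedSectionVars false

namespace Cfsg.Agent.H141.SpinFacts

open QuadraticMap Cfsg.Agent.LieClassical.OrthCore Cfsg.Agent.LieClassical.OrthTrans Matrix
open Cfsg.Agent.H160.QSpin Cfsg.Agent.H140.OreO

variable {F V : Type*} [Field F] [AddCommGroup V] [Module F V] {n : ℕ} {Q : QuadraticForm F V}

theorem comm_le : ⁅O Q, O Q⁆ ≤ O Q :=
  Subgroup.commutator_le.2 fun a ha b hb =>
    (O Q).mul_mem ((O Q).mul_mem ((O Q).mul_mem ha hb) ((O Q).inv_mem ha)) ((O Q).inv_mem hb)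

/-- A homomorphism to a commutative group kills the commutator subgroup. -/
theorem hom_eq_one {A : Type*} [CommGroup A] (φ : O Q →* A) {g : V ≃ₗ[F] V}
    (hg : g ∈ ⁅O Q, O Q⁆) (hO : g ∈ O Q) : φ ⟨g, hO⟩ = 1 := by
  have h1 : g ∈ (_root_.commutator (O Q)).map (O Q).subtype := by
    rw [commutator_def, Subgroup.map_commutator, ← MonoidHom.range_eq_map, Subgroup.range_subtype]
    exact hg
  obtain ⟨x, hx, hxg⟩ := h1
  have h2 : x = ⟨g, hO⟩ := Subtype.ext hxg
  rw [← h2]
  exact Abelianization.commutator_subset_ker φ hx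

/-- (F2) -/
theorem det_eq_one {g : V ≃ₗ[F] V} (hg : g ∈ ⁅O Q, O Q⁆) : LinearEquiv.det g = 1 :=
  hom_eq_one (Q := Q) (LinearEquiv.det.comp (O Q).subtype) hg (comm_le hg)

theorem det_eq_one' {g : V ≃ₗ[F] V} (hg : g ∈ ⁅O Q, O Q⁆) : LinearMap.det (g : V →ₗ[F] V) = 1 := by
  have := congrArg Units.val (det_eq_one hg)
  rwa [LinearEquiv.coe_det, Units.val_one] at this

/-! ### The quadratic character -/

open Classical in
/-- The quadratic character with values in `ℤˣ`. -/
noncomputable def chi (a : F) : ℤˣ := if IsSquare a then 1 else -1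

theorem chi_eq_one_iff (a : F) : chi a = 1 ↔ IsSquare a := by
  classical
  unfold chi
  split_ifs with h
  · simp [h]
  · simp only [h, iff_false]; decide

theorem chi_mul [Finite F] {a b : F} (ha : a ≠ 0) (hb : b ≠ 0) : chi (a * b) = chi a * chi b := by
  classical
  haveI := Fintype.ofFinite F
  have key : ∀ x : F, x ≠ 0 → ((chi x : ℤˣ) : ℤ) = quadraticChar F x := by
    intro x hx
    unfold chi
    split_ifs with h
    · rw [(quadraticChar_one_iff_isSquare hx).mpr h]; rfl
    · have h1 : quadraticChar F x ≠ 1 := fun h2 => h ((quadraticChar_one_iff_isSquare hx).mp h2)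
      rcases quadraticChar_dichotomy hx with h2 | h2
      · exact absurd h2 h1
      · rw [h2]; rfl
  apply Units.ext
  rw [Units.val_mul, key _ (mul_ne_zero ha hb), key a ha, key b hb, map_mul]

theorem chi_neg_one_mul_self [Finite F] (d : F) (hd : d ≠ 0) : chi (-1 : F) * chi (-d) = chi d := by
  rw [← chi_mul (neg_ne_zero.2 one_ne_zero) (neg_ne_zero.2 hd)]
  congr 1
  ring

theorem spin_refl' [Finite F] [Finite V] (h2 : (2 : F) ≠ 0) {v : V} (hv : Q v ≠ 0) :
    spin Q ⟨refl Q v hv, refl_mem_O hv⟩ = - chi (Q v) := by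
  classical
  haveI : Module.Finite F V := Module.Finite.of_finite
  rw [spin_refl h2 hv]
  unfold chi
  split_ifs <;> simp

/-- (F1) -/
theorem isSquare_of_refl_mul_refl [Finite F] [FiniteDimensional F V] (h2 : (2 : F) ≠ 0) {a b : V}
    (ha : Q a ≠ 0) (hb : Q b ≠ 0) (h : refl Q a ha * refl Q b hb ∈ ⁅O Q, O Q⁆) :
    IsSquare (Q a * Q b) := by
  haveI : Finite V := Module.finite_of_finite F
  have h1 := hom_eq_one (spin Q) h ((O Q).mul_mem (refl_mem_O ha) (refl_mem_O hb))
  have e : (⟨refl Q a ha * refl Q b hb, (O Q).mul_mem (refl_mem_O ha) (refl_mem_O hb)⟩ : O Q) =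
    ⟨refl Q a ha, refl_mem_O ha⟩ * ⟨refl Q b hb, refl_mem_O hb⟩ := rfl
  rw [e, map_mul, spin_refl' h2 ha, spin_refl' h2 hb, neg_mul_neg, ← chi_mul ha hb] at h1
  exact (chi_eq_one_iff _).1 h1

end Cfsg.Agent.H141.SpinFacts
end

-- part: H141/SpinOdd
section
/-!
# Spinor norm of the block decomposition, odd characteristic (helper141)
-/

set_option autoImplicit false
set_option linter.unusedSectionVars false

namespace Cfsg.Agent.H141.SpinFacts

open QuadraticMap Cfsg.Agent.LieClassical.OrthCore Cfsg.Agent.LieClassical.OrthTrans Matrix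
open Cfsg.Agent.H160.QSpin Cfsg.Agent.H140.OreO

variable {F V : Type*} [Field F] [AddCommGroup V] [Module F V] {n : ℕ} {Q : QuadraticForm F V}

/-! ### Unipotent elements -/

theorem pow_eq_one_of_cube [Finite F] {W : Type*} [AddCommGroup W] [Module F W] (h2 : (2 : F) ≠ 0)
    (g : W ≃ₗ[F] W) (h : ∀ x, g (g (g x)) - 3 • g (g x) + 3 • g x - x = 0) :
    ∃ k, Odd k ∧ g ^ k = 1 ∧ ∀ x : F, x ^ k = 1 → x = 1 := by
  obtain ⟨p, hp⟩ := CharP.exists F
  have hpp : p.Prime := (CharP.char_is_prime_or_zero F p).resolve_right (by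
    rintro rfl
    have := CharP.charP_to_charZero F
    exact (not_finite F).elim)
  haveI := Fact.mk hpp
  have hodd : Odd p := by
    rcases hpp.eq_two_or_odd' with h | h
    · subst h
      exact absurd (CharP.cast_eq_zero F 2) (by exact_mod_cast h2)
    · exact h
  haveI : ExpChar F p := ExpChar.prime hpp
  refine ⟨p ^ 2, hodd.pow, ?_, fun x hx => by
    have := (ExpChar.pow_prime_pow_mul_eq_one_iff p 2 1 x).1 (by rw [mul_one]; exact hx)
    simpa using this⟩
  have hp3 : 3 ≤ p ^ 2 := by nlinarith [hpp.two_le]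
  let N : Module.End F W := (g : W →ₗ[F] W) - 1
  have hN : N ^ 3 = 0 := by
    ext x
    have := h x
    simp only [N, pow_succ, pow_zero, one_mul, Module.End.mul_apply, LinearMap.sub_apply,
      Module.End.one_apply, LinearEquiv.coe_coe, map_sub, LinearMap.zero_apply]
    rw [← this]
    abel
  have hN' : N ^ (p ^ 2) = 0 := pow_eq_zero_of_le hp3 hN
  have hg : (g : Module.End F W) = 1 + N := by simp [N]
  have e1 : ((g : Module.End F W)) ^ (p ^ 2) = 1 := by
    rw [hg]
    haveI : CharP (Module.End F W) p ∨ Subsingleton W := by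
      by_cases hW : Subsingleton W
      · right; exact hW
      · left
        have : Nontrivial W := not_subsingleton_iff_nontrivial.1 hW
        exact charP_of_injective_algebraMap (algebraMap F (Module.End F W)).injective p
    rcases this with hc | hs
    · rw [add_pow_char_pow_of_commute _ _ (Commute.one_left N), one_pow, hN', add_zero]
    · ext x
      exact Subsingleton.elim _ _
  ext x
  have e2 : ∀ m : ℕ, ∀ x, (g ^ m) x = ((g : Module.End F W) ^ m) x := by
    intro m
    induction m with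
    | zero => intro x; rfl
    | succ m ih =>
      intro x
      rw [pow_succ, pow_succ, LinearEquiv.mul_apply, Module.End.mul_apply, ih]
      rfl
  rw [e2, e1]
  rfl

theorem hom_eq_one_of_odd {G : Type*} [Group G] (φ : G →* ℤˣ) {g : G} (h : ∃ k, Odd k ∧ g ^ k = 1) :
    φ g = 1 := by
  obtain ⟨k, hk, hg⟩ := h
  have h1 : φ g ^ k = 1 := by rw [← map_pow, hg, map_one]
  rcases Int.units_eq_one_or (φ g) with h | h
  · exact h
  · rw [h, hk.neg_one_pow] at h1
    rw [h, h1]

theorem Um_cube {u : M F V n ≃ₗ[F] M F V n} (hu : u ∈ Um n Q) (x : M F V n) :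
    u (u (u x)) - 3 • u (u x) + 3 • u x - x = 0 := by
  have h1 : ∀ x, (u x - x).1 = 0 := fun x => by rw [Prod.fst_sub, hu.2.1, sub_self]
  have h2 : ∀ x, x.1 = 0 → (u x - x).2.1 = 0 := fun x hx => by
    rw [Prod.snd_sub, Prod.fst_sub, hu.2.2.1 x hx, sub_self]
  have h3 := h2 (u x - x) (h1 x)
  have h4 := hu.2.2.2 (u (u x - x) - (u x - x)) (h1 _) h3
  rw [map_sub, map_sub, map_sub] at h4
  have h5 : u (u (u x)) - 3 • u (u x) + 3 • u x - x =
      (u (u (u x)) - u (u x) - (u (u x) - u x)) - (u (u x) - u x - (u x - x)) := by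
    abel
  rw [h5, h4, sub_self]

theorem Up_cube {u : M F V n ≃ₗ[F] M F V n} (hu : u ∈ Up n Q) (x : M F V n) :
    u (u (u x)) - 3 • u (u x) + 3 • u x - x = 0 := by
  have h1 : ∀ x, (u x - x).2.2 = 0 := fun x => by rw [Prod.snd_sub, Prod.snd_sub, hu.2.1, sub_self]
  have h2 : ∀ x, x.2.2 = 0 → (u x - x).2.1 = 0 := fun x hx => by
    rw [Prod.snd_sub, Prod.fst_sub, hu.2.2.1 x hx, sub_self]
  have h3 := h2 (u x - x) (h1 x)
  have h4 := hu.2.2.2 (u (u x - x) - (u x - x)) (h1 _) h3
  rw [map_sub, map_sub, map_sub] at h4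
  have h5 : u (u (u x)) - 3 • u (u x) + 3 • u x - x =
      (u (u (u x)) - u (u x) - (u (u x) - u x)) - (u (u x) - u x - (u x - x)) := by
    abel
  rw [h5, h4, sub_self]

theorem hom_Um [Finite F] (h2 : (2 : F) ≠ 0) (φ : O (MQ n Q) →* ℤˣ) {u : M F V n ≃ₗ[F] M F V n}
    (hu : u ∈ Um n Q) (hO : u ∈ O (MQ n Q)) : φ ⟨u, hO⟩ = 1 := by
  obtain ⟨k, hk, h, -⟩ := pow_eq_one_of_cube h2 u (Um_cube hu)
  exact hom_eq_one_of_odd φ ⟨k, hk, Subtype.ext (by rw [SubgroupClass.coe_pow]; exact h)⟩

theorem hom_Up [Finite F] (h2 : (2 : F) ≠ 0) (φ : O (MQ n Q) →* ℤˣ) {u : M F V n ≃ₗ[F] M F V n}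
    (hu : u ∈ Up n Q) (hO : u ∈ O (MQ n Q)) : φ ⟨u, hO⟩ = 1 := by
  obtain ⟨k, hk, h, -⟩ := pow_eq_one_of_cube h2 u (Up_cube hu)
  exact hom_eq_one_of_odd φ ⟨k, hk, Subtype.ext (by rw [SubgroupClass.coe_pow]; exact h)⟩

/-! ### Levi elements -/

/-- `A ↦ lev A 1`. -/
def levGL (n : ℕ) (Q : QuadraticForm F V) : GL (Fin n) F →* O (MQ n Q) where
  toFun A := ⟨lev A 1, lev_mem (O Q).one_mem⟩
  map_one' := Subtype.ext lev_one
  map_mul' A B := Subtype.ext (by
    show lev (A * B) 1 = lev A 1 * lev B 1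
    rw [← lev_mul, one_mul])

/-- `h ↦ lev 1 h`. -/
def levO (n : ℕ) (Q : QuadraticForm F V) : O Q →* O (MQ n Q) where
  toFun h := ⟨lev 1 (h : V ≃ₗ[F] V), lev_mem h.2⟩
  map_one' := Subtype.ext lev_one
  map_mul' A B := Subtype.ext (by
    show lev 1 _ = lev 1 _ * lev 1 _
    rw [← lev_mul, one_mul]; rfl)

theorem lev_eq (A : GL (Fin n) F) {h : V ≃ₗ[F] V} (hh : h ∈ O Q) :
    (⟨lev A h, lev_mem hh⟩ : O (MQ n Q)) = levGL n Q A * levO n Q ⟨h, hh⟩ :=
  Subtype.ext (by
    show lev A h = lev A 1 * lev 1 h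
    rw [← lev_mul, mul_one, one_mul])

theorem MQ_single (i : Fin n) (c : F) :
    MQ n Q ((Pi.single i 1, 0, Pi.single i (-c)) : M F V n) = -c := by
  rw [MQ_apply]
  simp

theorem polar_single (i : Fin n) (c : F) (x : M F V n) :
    polar (MQ n Q) ((Pi.single i 1, 0, Pi.single i (-c)) : M F V n) x = x.2.2 i - c * x.1 i := by
  rw [polar_MQ]
  simp only [single_dotProduct, one_mul, dotProduct_single, polar_zero_left, add_zero]
  ring

/-- A diagonal element with one entry is a product of two reflections. -/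
theorem lev_single {i : Fin n} {d : F} (hd : d ≠ 0) (A : GL (Fin n) F)
    (hA : (A : Matrix (Fin n) (Fin n) F) = diagonal (Function.update 1 i d))
    (h1 : MQ n Q ((Pi.single i 1, 0, Pi.single i (-d⁻¹)) : M F V n) ≠ 0)
    (h2 : MQ n Q ((Pi.single i 1, 0, Pi.single i (-1)) : M F V n) ≠ 0) :
    lev A (1 : V ≃ₗ[F] V) = refl (MQ n Q) _ h1 * refl (MQ n Q) _ h2 := by
  have hti : (ti A : Matrix (Fin n) (Fin n) F) = diagonal (Function.update 1 i d⁻¹) := by
    have e1 : (A : Matrix (Fin n) (Fin n) F) * diagonal (Function.update 1 i d⁻¹) = 1 := by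
      rw [hA, diagonal_mul_diagonal, ← diagonal_one]
      congr 1
      ext j
      by_cases hj : j = i
      · subst hj; simp [hd]
      · simp [Function.update_of_ne hj]
    have e2 : ((A⁻¹ : GL (Fin n) F) : Matrix (Fin n) (Fin n) F) =
        diagonal (Function.update 1 i d⁻¹) := by
      calc ((A⁻¹ : GL (Fin n) F) : Matrix (Fin n) (Fin n) F)
          = ((A⁻¹ : GL (Fin n) F) : Matrix (Fin n) (Fin n) F) *
              ((A : Matrix (Fin n) (Fin n) F) * diagonal (Function.update 1 i d⁻¹)) := by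
            rw [e1, mul_one]
        _ = diagonal (Function.update 1 i d⁻¹) := by
            rw [← mul_assoc, ← Units.val_mul, inv_mul_cancel, Units.val_one, one_mul]
    rw [ti_coe, e2, diagonal_transpose]
  apply LinearEquiv.ext
  intro x
  rw [lev_apply, LinearEquiv.mul_apply, refl_apply, refl_apply, polar_sub_right, polar_smul_right,
    polar_single, polar_single, polar_single, MQ_single, MQ_single, hA, hti]
  have e3 : ∀ (c : F) (a : Fin n → F), diagonal (Function.update 1 i c) *ᵥ a =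
      a + Pi.single i ((c - 1) * a i) := by
    intro c a
    ext j
    rw [mulVec_diagonal, Pi.add_apply]
    by_cases hj : j = i
    · subst hj; simp; ring
    · simp [Function.update_of_ne hj, Pi.single_eq_of_ne hj]
  rw [e3, e3]
  refine Prod.ext ?_ (Prod.ext ?_ ?_)
  · ext j
    by_cases hj : j = i
    · subst hj
      simp
      field_simp
      ring
    · simp [Pi.single_eq_of_ne hj]
  · simp
  · ext j
    by_cases hj : j = i
    · subst hj
      simp
      field_simp
      ring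
    · simp [Pi.single_eq_of_ne hj]

/-- A diagonal matrix with nonzero entries as an element of `GL`. -/
def dg (D : Fin n → F) (hD : ∀ i, D i ≠ 0) : GL (Fin n) F where
  val := diagonal D
  inv := diagonal fun i => (D i)⁻¹
  val_inv := by
    rw [diagonal_mul_diagonal, ← diagonal_one]
    congr 1
    ext i
    exact mul_inv_cancel₀ (hD i)
  inv_val := by
    rw [diagonal_mul_diagonal, ← diagonal_one]
    congr 1
    ext i
    exact inv_mul_cancel₀ (hD i)

/-- A homomorphism from `GL_n` to a commutative group which kills the transvections and takes the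
value `χ d` on the diagonal matrices with one nontrivial entry `d`. -/
theorem hom_GL {A : Type*} [CommGroup A] (φ : GL (Fin n) F →* A) (χ : F → A)
    (hχ : ∀ a b, a ≠ 0 → b ≠ 0 → χ (a * b) = χ a * χ b)
    (ht : ∀ (g : GL (Fin n) F) (i j : Fin n) (c : F), i ≠ j →
      (g : Matrix (Fin n) (Fin n) F) = transvection i j c → φ g = 1)
    (hd : ∀ (g : GL (Fin n) F) (i : Fin n) (d : F), d ≠ 0 →
      (g : Matrix (Fin n) (Fin n) F) = diagonal (Function.update 1 i d) → φ g = χ d)
    (g : GL (Fin n) F) : φ g = χ (g : Matrix (Fin n) (Fin n) F).det := by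
  have h1 : χ 1 = 1 := by
    have := hχ 1 1 one_ne_zero one_ne_zero
    rw [mul_one] at this
    exact (mul_eq_left.1 this.symm)
  have hdet : (g : Matrix (Fin n) (Fin n) F).det ≠ 0 := by
    have := (Matrix.isUnit_iff_isUnit_det _).1 (Units.isUnit g)
    exact this.ne_zero
  refine diagonal_transvection_induction_of_det_ne_zero
    (fun M => ∀ g : GL (Fin n) F, (g : Matrix (Fin n) (Fin n) F) = M → φ g = χ M.det)
    (g : Matrix (Fin n) (Fin n) F) hdet ?_ ?_ ?_ g rfl
  · intro D hD g hg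
    have hD' : ∀ i, D i ≠ 0 := by
      intro i hi
      rw [det_diagonal] at hD
      exact hD (Finset.prod_eq_zero (Finset.mem_univ i) hi)
    have key : ∀ s : Finset (Fin n), ∀ g : GL (Fin n) F,
        (g : Matrix (Fin n) (Fin n) F) = diagonal (fun i => if i ∈ s then D i else 1) →
        φ g = χ (∏ i ∈ s, D i) := by
      intro s
      induction s using Finset.induction_on with
      | empty =>
        intro g hg
        have : g = 1 := by
          apply Units.ext
          rw [hg]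
          simp
        rw [this, map_one, Finset.prod_empty, h1]
      | insert a s ha ih =>
        intro g hg
        have h3 : ∀ i, (Function.update (1 : Fin n → F) a (D a)) i ≠ 0 := by
          intro i
          by_cases hi : i = a
          · subst hi; simpa using hD' i
          · simp [Function.update_of_ne hi]
        have h4 : ∀ i, (fun i => if i ∈ s then D i else 1) i ≠ 0 := by
          intro i
          simp only
          split_ifs
          · exact hD' i
          · exact one_ne_zero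
        have h5 : g = dg _ h3 * dg _ h4 := by
          apply Units.ext
          rw [hg, Units.val_mul]
          show _ = diagonal _ * diagonal _
          rw [diagonal_mul_diagonal]
          congr 1
          ext i
          by_cases hi : i = a
          · subst hi; simp [ha]
          · simp [Function.update_of_ne hi, Finset.mem_insert, hi]
        rw [h5, map_mul, hd _ a (D a) (hD' a) rfl, ih _ rfl, Finset.prod_insert ha, hχ _ _ (hD' a)]
        exact Finset.prod_ne_zero_iff.2 fun i _ => hD' i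
    rw [det_diagonal]
    refine key Finset.univ g ?_
    rw [hg]
    simp
  · intro t g hg
    have hne : t.i ≠ t.j := t.hij
    rw [TransvectionStruct.det, h1]
    exact ht g t.i t.j t.c hne hg
  · intro A B hA hB ihA ihB g hg
    let gA : GL (Fin n) F := GeneralLinearGroup.mkOfDetNeZero A hA
    let gB : GL (Fin n) F := GeneralLinearGroup.mkOfDetNeZero B hB
    have : g = gA * gB := by
      apply Units.ext
      rw [hg]; rfl
    rw [this, map_mul, ihA gA rfl, ihB gB rfl, det_mul, hχ _ _ hA hB]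

theorem transvection_pow {R : Type*} [CommRing R] {m : Type*} [Fintype m] [DecidableEq m]
    {i j : m} (hij : i ≠ j) (c : R) (k : ℕ) :
    transvection i j c ^ k = transvection i j (k * c) := by
  induction k with
  | zero => simp
  | succ k ih =>
    rw [pow_succ, ih, transvection_mul_transvection_same _ _ hij]
    congr 1
    push_cast
    ring

theorem spin_levGL [Finite F] [Finite V] (h2 : (2 : F) ≠ 0) (A : GL (Fin n) F) :
    spin (MQ n Q) (levGL n Q A) = chi (A : Matrix (Fin n) (Fin n) F).det := by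
  refine hom_GL ((spin (MQ n Q)).comp (levGL n Q)) chi (fun a b ha hb => chi_mul ha hb) ?_ ?_ A
  · intro g i j c hij hg
    obtain ⟨p, hp⟩ := CharP.exists F
    have hpp : p.Prime := (CharP.char_is_prime_or_zero F p).resolve_right (by
      rintro rfl
      have := CharP.charP_to_charZero F
      exact (not_finite F).elim)
    apply hom_eq_one_of_odd
    refine ⟨p, ?_, ?_⟩
    · rcases hpp.eq_two_or_odd' with h | h
      · subst h
        exact absurd (CharP.cast_eq_zero F 2) (by exact_mod_cast h2)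
      · exact h
    · apply Units.ext
      rw [Units.val_pow_eq_pow_val, hg, transvection_pow hij, CharP.cast_eq_zero, zero_mul,
        transvection_zero]
      rfl
  · intro g i d hd hg
    have e1 : MQ n Q ((Pi.single i 1, 0, Pi.single i (-d⁻¹)) : M F V n) ≠ 0 := by
      rw [MQ_single]; exact neg_ne_zero.2 (inv_ne_zero hd)
    have e2 : MQ n Q ((Pi.single i 1, 0, Pi.single i (-1)) : M F V n) ≠ 0 := by
      rw [MQ_single]; exact neg_ne_zero.2 one_ne_zero
    have e3 : levGL n Q g = ⟨refl (MQ n Q) _ e1, refl_mem_O e1⟩ * ⟨refl (MQ n Q) _ e2, refl_mem_O e2⟩ :=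
      Subtype.ext (lev_single hd g hg e1 e2)
    show spin (MQ n Q) (levGL n Q g) = chi d
    rw [e3, map_mul, spin_refl' h2, spin_refl' h2, MQ_single, MQ_single, neg_mul_neg,
      ← chi_mul (neg_ne_zero.2 (inv_ne_zero hd)) (neg_ne_zero.2 one_ne_zero)]
    have e4 : -d⁻¹ * -1 = d⁻¹ := by ring
    have e5 : chi d⁻¹ * chi d = 1 := by
      rw [← chi_mul (inv_ne_zero hd) hd, inv_mul_cancel₀ hd, chi_eq_one_iff]
      exact IsSquare.one
    rw [e4]
    have e6 : chi d * chi d = 1 := Int.units_mul_self _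
    exact mul_right_cancel (e5.trans e6.symm)

theorem MQ_inr (v : V) : MQ n Q ((0, v, 0) : M F V n) = Q v := by
  rw [MQ_apply]; simp

theorem lev_refl {v : V} (hv : Q v ≠ 0) (hv' : MQ n Q ((0, v, 0) : M F V n) ≠ 0) :
    lev (1 : GL (Fin n) F) (refl Q v hv) = refl (MQ n Q) _ hv' := by
  apply LinearEquiv.ext
  intro x
  rw [lev_apply, refl_apply, refl_apply, MQ_inr, polar_MQ, ti_one]
  refine Prod.ext ?_ (Prod.ext ?_ ?_)
  · simp
  · simp
  · simp

theorem spin_levO [Finite F] [Finite V] (h2 : (2 : F) ≠ 0) (hQ : Nondeg Q) (h : O Q) :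
    spin (MQ n Q) (levO n Q h) = spin Q h := by
  have : (spin (MQ n Q)).comp (levO n Q) = spin Q := by
    haveI : Module.Finite F V := Module.Finite.of_finite
    refine hom_ext h2 hQ (fun a => Int.units_mul_self a) fun v hv => ?_
    have hv' : MQ n Q ((0, v, 0) : M F V n) ≠ 0 := by rw [MQ_inr]; exact hv
    have e : levO n Q ⟨refl Q v hv, refl_mem_O hv⟩ = ⟨refl (MQ n Q) _ hv', refl_mem_O hv'⟩ :=
      Subtype.ext (lev_refl hv hv')
    show spin (MQ n Q) (levO n Q ⟨refl Q v hv, refl_mem_O hv⟩) = _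
    rw [e, spin_refl' h2, spin_refl' h2, MQ_inr]
  exact DFunLike.congr_fun this h

/-- Spinor norm of Levi elements. -/
theorem spin_lev [Finite F] [Finite V] (h2 : (2 : F) ≠ 0) (hQ : Nondeg Q) (A : GL (Fin n) F)
    {h : V ≃ₗ[F] V} (hh : h ∈ O Q) :
    spin (MQ n Q) ⟨lev A h, lev_mem hh⟩ = chi (A : Matrix (Fin n) (Fin n) F).det * spin Q ⟨h, hh⟩ := by
  rw [lev_eq, map_mul, spin_levGL h2, spin_levO h2 hQ]

theorem det_gle (A : GL (Fin n) F) : LinearEquiv.det (gle A) = GeneralLinearGroup.det A := by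
  apply Units.ext
  rw [LinearEquiv.coe_det]
  have : ((gle A : (Fin n → F) ≃ₗ[F] (Fin n → F)) : (Fin n → F) →ₗ[F] (Fin n → F)) =
      Matrix.toLin' (A : Matrix (Fin n) (Fin n) F) := by
    ext x
    rfl
  rw [this, LinearMap.det_toLin']
  rfl

theorem det_ti (A : GL (Fin n) F) : GeneralLinearGroup.det (ti A) = (GeneralLinearGroup.det A)⁻¹ := by
  rw [eq_inv_iff_mul_eq_one]
  apply Units.ext
  show (ti A : Matrix (Fin n) (Fin n) F).det * (A : Matrix (Fin n) (Fin n) F).det = 1
  rw [ti_coe, det_transpose, ← det_mul, ← Units.val_mul, inv_mul_cancel, Units.val_one, det_one]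

theorem det_lev [FiniteDimensional F V] (A : GL (Fin n) F) (h : V ≃ₗ[F] V) :
    LinearEquiv.det (lev A h) = LinearEquiv.det h := by
  have e : lev A h = pr (gle A) (pr h (gle (ti A))) := rfl
  rw [e, det_pr, det_pr, det_gle, det_gle, det_ti, mul_comm (LinearEquiv.det h), mul_inv_cancel_left]

theorem det_eq_one_of_cube [Finite F] {W : Type*} [AddCommGroup W] [Module F W] (h2 : (2 : F) ≠ 0)
    (g : W ≃ₗ[F] W) (h : ∀ x, g (g (g x)) - 3 • g (g x) + 3 • g x - x = 0) :
    LinearEquiv.det g = 1 := by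
  obtain ⟨k, -, hk, h1⟩ := pow_eq_one_of_cube h2 g h
  have h3 : LinearEquiv.det g ^ k = 1 := by rw [← map_pow, hk, map_one]
  apply Units.ext
  rw [Units.val_one]
  apply h1
  rw [← Units.val_pow_eq_pow_val, h3, Units.val_one]

/-- The block decomposition of an element of `Ω`, odd characteristic: the middle part has
determinant one and the spinor sign of `det A`. -/
theorem decomp_odd [Finite F] [Finite V] (h2 : (2 : F) ≠ 0) (hQ : Nondeg Q)
    {u₁ u₂ : M F V n ≃ₗ[F] M F V n} (hu₁ : u₁ ∈ Um n Q) (hu₂ : u₂ ∈ Up n Q) {A : GL (Fin n) F}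
    {g₁ : V ≃ₗ[F] V} (hg₁ : g₁ ∈ O Q)
    (h : u₁ * lev A g₁ * u₂ ∈ ⁅O (MQ n Q), O (MQ n Q)⁆) :
    LinearEquiv.det g₁ = 1 ∧ spin Q ⟨g₁, hg₁⟩ = chi (A : Matrix (Fin n) (Fin n) F).det := by
  haveI : Module.Finite F V := Module.Finite.of_finite
  constructor
  · have h1 := det_eq_one h
    rw [map_mul, map_mul, det_eq_one_of_cube h2 u₁ (Um_cube hu₁),
      det_eq_one_of_cube h2 u₂ (Up_cube hu₂), one_mul, mul_one, det_lev] at h1
    exact h1
  · have h1 := hom_eq_one (spin (MQ n Q)) h (comm_le h)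
    have e : (⟨u₁ * lev A g₁ * u₂, comm_le h⟩ : O (MQ n Q)) =
        ⟨u₁, hu₁.1⟩ * ⟨lev A g₁, lev_mem hg₁⟩ * ⟨u₂, hu₂.1⟩ := rfl
    rw [e, map_mul, map_mul, hom_Um h2 _ hu₁, hom_Up h2 _ hu₂, one_mul, mul_one,
      spin_lev h2 hQ _ hg₁] at h1
    have h3 : chi (A : Matrix (Fin n) (Fin n) F).det * chi (A : Matrix (Fin n) (Fin n) F).det = 1 :=
      Int.units_mul_self _
    exact mul_left_cancel (h1.trans h3.symm)

/-- If the middle part is `1` then `det A` is a square. -/
theorem isSquare_det_of_mem [Finite F] [Finite V] (h2 : (2 : F) ≠ 0) (hQ : Nondeg Q)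
    {u₁ u₂ : M F V n ≃ₗ[F] M F V n} (hu₁ : u₁ ∈ Um n Q) (hu₂ : u₂ ∈ Up n Q) {A : GL (Fin n) F}
    (h : u₁ * lev A (1 : V ≃ₗ[F] V) * u₂ ∈ ⁅O (MQ n Q), O (MQ n Q)⁆) :
    IsSquare (A : Matrix (Fin n) (Fin n) F).det := by
  rw [← chi_eq_one_iff, ← (decomp_odd h2 hQ hu₁ hu₂ (O Q).one_mem h).2]
  exact map_one _

/-! ### Transport and frames -/

/-- Transport of the commutator subgroup along an isometry. -/
theorem conj_mem_comm {V' : Type*} [AddCommGroup V'] [Module F V'] {Q' : QuadraticForm F V'}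
    (e : V ≃ₗ[F] V') (he : ∀ v, Q' (e v) = Q v) {g : V ≃ₗ[F] V} (hg : g ∈ ⁅O Q, O Q⁆) :
    e.symm.trans (g.trans e) ∈ ⁅O Q', O Q'⁆ := by
  let φ : (V ≃ₗ[F] V) →* (V' ≃ₗ[F] V') :=
    { toFun := fun g => e.symm.trans (g.trans e)
      map_one' := by ext x; simp
      map_mul' := fun a b => by ext x; simp [LinearEquiv.mul_apply] }
  have h1 : φ g ∈ (⁅O Q, O Q⁆).map φ := Subgroup.mem_map_of_mem φ hg
  rw [Subgroup.map_commutator] at h1
  have h2 : (O Q).map φ ≤ O Q' := by
    rintro _ ⟨k, hk, rfl⟩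
    exact conj_mem_O e he hk
  exact Subgroup.commutator_mono h2 h2 h1

/-- The corner of an isometry read in the model. -/
theorem corner_toModel {w w' : Fin n → V} (hf : Frame Q w w') (g : V ≃ₗ[F] V) (a : Fin n → F) :
    ((hf.toModel.symm.trans (g.trans hf.toModel)) (a, 0, 0)).1 = corner Q g w w' *ᵥ a := by
  ext i
  show (hf.toModel (g (hf.toModel.symm (a, 0, 0)))).1 i = _
  rw [hf.toModel_fst, hf.toModel_symm_apply, map_add, map_sum]
  simp only [map_smul, Submodule.coe_zero, Pi.zero_apply, zero_smul, Finset.sum_const_zero,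
    add_zero, map_zero]
  rw [← polarBilin_apply_apply, map_sum, LinearMap.sum_apply, mulVec, dotProduct]
  refine Finset.sum_congr rfl fun j _ => ?_
  rw [map_smul, LinearMap.smul_apply, polarBilin_apply_apply, corner_apply, smul_eq_mul, mul_comm]

/-- The block decomposition of `g` for a frame with invertible corner. -/
theorem exists_decomp [FiniteDimensional F V] {w w' : Fin n → V} (hf : Frame Q w w')
    {g : V ≃ₗ[F] V} (hg : g ∈ O Q) (A : GL (Fin n) F)
    (hA : (A : Matrix (Fin n) (Fin n) F) = corner Q g w w') :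
    ∃ u₁ ∈ Um n (res Q w w'), ∃ g₁ ∈ O (res Q w w'), ∃ u₂ ∈ Up n (res Q w w'),
      hf.toModel.symm.trans (g.trans hf.toModel) = u₁ * lev A g₁ * u₂ := by
  refine decomp (conj_mem_O hf.toModel hf.MQ_toModel hg) A fun a => ?_
  rw [corner_toModel, hA]

theorem toModel_symm_left {w w' : Fin n → V} (hf : Frame Q w w') (c : Fin n → F)
    (v : perp Q w w') : hf.toModel.symm (c, v, 0) = (v : V) + ∑ i, c i • w i := by
  rw [hf.toModel_symm_apply]
  simp [add_comm]

theorem toModel_symm_right {w w' : Fin n → V} (hf : Frame Q w w') (d : Fin n → F)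
    (v : perp Q w w') : hf.toModel.symm (0, v, d) = (v : V) + ∑ i, d i • w' i := by
  rw [hf.toModel_symm_apply]
  simp

/-- With `SchurOne` the middle part is `1`. -/
theorem schurOne_iff {w w' : Fin n → V} (hf : Frame Q w w')
    {g : V ≃ₗ[F] V} {A : GL (Fin n) F} {u₁ u₂ : M F (perp Q w w') n ≃ₗ[F] M F (perp Q w w') n}
    (hu₁ : u₁ ∈ Um n (res Q w w')) (hu₂ : u₂ ∈ Up n (res Q w w'))
    {g₁ : perp Q w w' ≃ₗ[F] perp Q w w'}
    (h : hf.toModel.symm.trans (g.trans hf.toModel) = u₁ * lev A g₁ * u₂) :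
    SchurOne Q g w w' ↔ g₁ = 1 := by
  have hG : ∀ x, hf.toModel (g (hf.toModel.symm x)) = u₁ (lev A g₁ (u₂ x)) := fun x => by
    have := congrArg (fun k : M F (perp Q w w') n ≃ₗ[F] M F (perp Q w w') n => k x) h
    exact this
  constructor
  · intro hs
    ext v
    obtain ⟨c, d, hcd⟩ := hs (v : V) v.2
    rw [← toModel_symm_left hf c v, ← toModel_symm_right hf d v] at hcd
    have h1 := hG (c, v, 0)
    rw [hcd, LinearEquiv.apply_symm_apply] at h1
    have h2 : (u₂ (c, v, 0)).2.1 = v := hu₂.2.2.1 (c, v, 0) rfl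
    have h3 : (u₂ (c, v, 0)).2.2 = 0 := hu₂.2.1 (c, v, 0)
    have h4 : (u₂ (c, v, 0)).1 = 0 := by
      have := congrArg Prod.fst h1
      rw [hu₁.2.1, lev_apply] at this
      have h5 := congrArg (fun z => ((A⁻¹ : GL (Fin n) F) : Matrix (Fin n) (Fin n) F) *ᵥ z) this
      simp only [mulVec_mulVec, ← Units.val_mul, inv_mul_cancel, Units.val_one, one_mulVec,
        mulVec_zero] at h5
      exact h5.symm
    have h6 : (lev A g₁ (u₂ (c, v, 0))).1 = 0 := by
      rw [lev_apply, h4, mulVec_zero]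
    have h7 := hu₁.2.2.1 _ h6
    rw [← h1, lev_apply, h2] at h7
    exact congrArg Subtype.val h7.symm
  · rintro rfl v hv
    have hx := (Up n (res Q w w')).inv_mem hu₂
    have h2 : (u₂⁻¹ ((0, ⟨v, hv⟩, 0) : M F (perp Q w w') n)).2.1 = ⟨v, hv⟩ := hx.2.2.1 _ rfl
    have h3 : (u₂⁻¹ ((0, ⟨v, hv⟩, 0) : M F (perp Q w w') n)).2.2 = 0 := hx.2.1 _
    have h4 : u₂ (u₂⁻¹ ((0, ⟨v, hv⟩, 0) : M F (perp Q w w') n)) = (0, ⟨v, hv⟩, 0) :=
      u₂.apply_symm_apply _
    set c := (u₂⁻¹ ((0, ⟨v, hv⟩, 0) : M F (perp Q w w') n)).1 with hc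
    have h5 : u₂⁻¹ ((0, ⟨v, hv⟩, 0) : M F (perp Q w w') n) = (c, ⟨v, hv⟩, 0) :=
      Prod.ext rfl (Prod.ext h2 h3)
    rw [h5] at h4
    have h6 := hG (c, ⟨v, hv⟩, 0)
    rw [h4, lev_apply] at h6
    simp only [mulVec_zero, LinearEquiv.coe_one, id_eq] at h6
    have h7 : (u₁ ((0, ⟨v, hv⟩, 0) : M F (perp Q w w') n)).2.1 = ⟨v, hv⟩ := hu₁.2.2.1 _ rfl
    have h8 : (u₁ ((0, ⟨v, hv⟩, 0) : M F (perp Q w w') n)).1 = 0 := hu₁.2.1 _
    set d := (u₁ ((0, ⟨v, hv⟩, 0) : M F (perp Q w w') n)).2.2 with hd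
    have h9 : u₁ ((0, ⟨v, hv⟩, 0) : M F (perp Q w w') n) = (0, ⟨v, hv⟩, d) :=
      Prod.ext h8 (Prod.ext h7 rfl)
    refine ⟨c, d, ?_⟩
    have e1 := toModel_symm_left hf c ⟨v, hv⟩
    have e2 := toModel_symm_right hf d ⟨v, hv⟩
    simp only at e1 e2
    rw [← e1, ← e2, ← h9, ← h6, LinearEquiv.symm_apply_apply]

/-- (F1 for frames) odd characteristic: for `g ∈ Ω` and a frame with Schur complement `1` the
determinant of the corner is a square. -/
theorem isSquare_det_corner [Finite F] [FiniteDimensional F V] (h2 : (2 : F) ≠ 0) (hQ : Nondeg Q)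
    {w w' : Fin n → V} (hf : Frame Q w w') {g : V ≃ₗ[F] V} (hg : g ∈ ⁅O Q, O Q⁆)
    (hs : SchurOne Q g w w') : IsSquare (corner Q g w w').det := by
  by_cases hdet : (corner Q g w w').det = 0
  · rw [hdet]; exact IsSquare.zero
  haveI : Finite V := Module.finite_of_finite F
  obtain ⟨u₁, hu₁, g₁, hg₁, u₂, hu₂, e⟩ := exists_decomp hf (comm_le hg)
    (GeneralLinearGroup.mkOfDetNeZero _ hdet) rfl
  have h1 := (schurOne_iff hf hu₁ hu₂ e).1 hs
  subst h1
  have h3 := conj_mem_comm hf.toModel hf.MQ_toModel hg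
  rw [e] at h3
  exact isSquare_det_of_mem h2 (hf.nondeg_res hQ) hu₁ hu₂ h3

/-- odd characteristic, any invertible corner: the middle part has determinant one and spinor sign
that of the determinant of the corner. -/
theorem frame_odd [Finite F] [FiniteDimensional F V] [Finite V] (h2 : (2 : F) ≠ 0) (hQ : Nondeg Q)
    {w w' : Fin n → V} (hf : Frame Q w w') {g : V ≃ₗ[F] V} (hg : g ∈ ⁅O Q, O Q⁆)
    {A : GL (Fin n) F} {u₁ u₂ : M F (perp Q w w') n ≃ₗ[F] M F (perp Q w w') n}
    (hu₁ : u₁ ∈ Um n (res Q w w')) (hu₂ : u₂ ∈ Up n (res Q w w'))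
    {g₁ : perp Q w w' ≃ₗ[F] perp Q w w'} (hg₁ : g₁ ∈ O (res Q w w'))
    (h : hf.toModel.symm.trans (g.trans hf.toModel) = u₁ * lev A g₁ * u₂) :
    LinearEquiv.det g₁ = 1 ∧ spin (res Q w w') ⟨g₁, hg₁⟩ = chi (A : Matrix (Fin n) (Fin n) F).det := by
  have h3 := conj_mem_comm hf.toModel hf.MQ_toModel hg
  rw [h] at h3
  exact decomp_odd h2 (hf.nondeg_res hQ) hu₁ hu₂ hg₁ h3

end Cfsg.Agent.H141.SpinFacts
end
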