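import Mathlib
import Cfsg.Agent.H141.SpinOdd
set_option linter.all false

/-!
# The Dickson invariant in characteristic two (helper141)

* `rk g = dim (g - 1) V`, `even_rk` : `rk f + rk g + rk (f g)` is even for isometries;
* `dick h2 hQ : O Q →* ℤˣ`, `g ↦ (-1) ^ rk g`; `dick_refl = -1`, `dick_siegel = 1`;
* `dick_Um`, `dick_Up`, `dick_lev`; `decomp_two`, `frame_two`.
-/

set_option autoImplicit false
set_option linter.unusedSectionVars false

namespace Cfsg.Agent.H141.SpinFacts

open QuadraticMap Cfsg.Agent.LieClassical.OrthCore Cfsg.Agent.LieClassical.OrthTrans Matrix Module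
open Cfsg.Agent.H160.QSpin Cfsg.Agent.H140.OreO

variable {F V : Type*} [Field F] [AddCommGroup V] [Module F V] {n : ℕ} {Q : QuadraticForm F V}

/-- the fixed space -/
def fixd (f : V ≃ₗ[F] V) : Submodule F V := LinearMap.eqLocus f.toLinearMap LinearMap.id

theorem mem_fixd (f : V ≃ₗ[F] V) (v : V) : v ∈ fixd f ↔ f v = v := Iff.rfl

/-- the dimension of `(g - 1) V` -/
noncomputable def rk (g : V ≃ₗ[F] V) : ℕ := finrank F (LinearMap.range ((g : V →ₗ[F] V) - 1))

theorem ker_sub_one (g : V ≃ₗ[F] V) : LinearMap.ker ((g : V →ₗ[F] V) - 1) = fixd g := by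
  ext v
  rw [LinearMap.mem_ker, mem_fixd, LinearMap.sub_apply, sub_eq_zero]
  rfl

theorem rk_add [FiniteDimensional F V] (g : V ≃ₗ[F] V) :
    rk g + finrank F (fixd g) = finrank F V := by
  rw [← ker_sub_one, rk]
  exact LinearMap.finrank_range_add_finrank_ker _

/-- the form `B ⊥ B` on `V × V` -/
def BB (B : LinearMap.BilinForm F V) : LinearMap.BilinForm F (V × V) :=
  B.compl₁₂ (LinearMap.fst _ V V) (LinearMap.fst _ V V) + B.compl₁₂ (LinearMap.snd _ V V) (LinearMap.snd _ V V)

theorem BB_apply (B : LinearMap.BilinForm F V) (x y : V × V) : BB B x y = B x.1 y.1 + B x.2 y.2 := rfl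

theorem finrank_graph (f : V →ₗ[F] V) : finrank F f.graph = finrank F V := by
  rw [LinearMap.graph_eq_range_prod]
  apply LinearMap.finrank_range_of_inj
  intro x y hxy
  exact congrArg Prod.fst hxy

theorem finrank_graph_inf (f g : V →ₗ[F] V) :
    finrank F ↥(f.graph ⊓ g.graph) = finrank F (LinearMap.eqLocus f g) := by
  have hinj : Function.Injective (LinearMap.id.prod f : V →ₗ[F] V × V) := by
    intro x y hxy
    exact congrArg Prod.fst hxy
  have h1 : f.graph ⊓ g.graph = (LinearMap.eqLocus f g).map (LinearMap.id.prod f) := by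
    ext x
    rw [Submodule.mem_inf, LinearMap.mem_graph_iff, LinearMap.mem_graph_iff, Submodule.mem_map]
    constructor
    · rintro ⟨h1, h2⟩
      refine ⟨x.1, ?_, ?_⟩
      · show f x.1 = g x.1
        rw [← h1, h2]
      · apply Prod.ext
        · rfl
        · exact h1.symm
    · rintro ⟨y, hy, rfl⟩
      exact ⟨rfl, hy⟩
  rw [h1]
  exact (Submodule.equivMapOfInjective _ hinj (LinearMap.eqLocus f g)).finrank_eq.symm

theorem add_self_two (h2 : (2 : F) = 0) (x : F) : x + x = 0 := by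
  rw [← two_mul, h2, zero_mul]

/-- A nondegenerate space in characteristic two has even dimension. -/
theorem even_finrank [FiniteDimensional F V] (h2 : (2 : F) = 0) (hQ : Nondeg Q) :
    Even (finrank F V) := by
  obtain ⟨m, hm⟩ := Cfsg.Agent.ClassicalGeometry.TwoFamilies.exists_finrank_eq_ker_add (polarBilin Q)
    (fun v => by rw [polarBilin_apply_apply, polar_self', h2, zero_mul])
  have hker : LinearMap.ker (polarBilin Q) = ⊥ := by
    rw [LinearMap.ker_eq_bot']
    intro v hv
    exact hQ v fun w => by rw [← polarBilin_apply_apply, hv]; rfl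
  rw [hker, finrank_bot, zero_add] at hm
  exact ⟨m, hm⟩

/-- **Dickson**: the parity of the rank is multiplicative. -/
theorem even_rk [FiniteDimensional F V] (h2 : (2 : F) = 0) (hQ : Nondeg Q) {f g : V ≃ₗ[F] V}
    (hf : f ∈ O Q) (hg : g ∈ O Q) : Even (rk f + rk g + rk (f * g)) := by
  have hadd := add_self_two h2
  set m := finrank F V with hm
  have hfin : finrank F (V × V) = 2 * m := by
    rw [Module.finrank_prod, ← hm]; ring
  have hnd : (BB (polarBilin Q)).Nondegenerate := by
    have hs : ∀ x y, BB (polarBilin Q) x y = BB (polarBilin Q) y x := fun x y => by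
      rw [BB_apply, BB_apply]
      simp only [polarBilin_apply_apply]
      rw [polar_comm Q x.1, polar_comm Q x.2]
    have hl : ∀ x : V × V, (∀ y, BB (polarBilin Q) x y = 0) → x = 0 := by
      intro x hx
      apply Prod.ext
      · apply hQ
        intro w
        have := hx (w, 0)
        rw [BB_apply] at this
        simpa using this
      · apply hQ
        intro w
        have := hx (0, w)
        rw [BB_apply] at this
        simpa using this
    exact ⟨hl, fun y hy => hl y fun x => by rw [hs]; exact hy x⟩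
  have hrefl : (BB (polarBilin Q)).IsRefl := by
    intro x y hxy
    rw [BB_apply] at hxy ⊢
    simp only [polarBilin_apply_apply] at hxy ⊢
    rw [polar_comm Q y.1, polar_comm Q y.2]
    exact hxy
  have hq' : ∀ x y : V × V, (Q (x + y).1 + Q (x + y).2) =
      (Q x.1 + Q x.2) + (Q y.1 + Q y.2) + BB (polarBilin Q) x y := by
    intro x y
    rw [BB_apply, Prod.fst_add, Prod.snd_add, Q_add, Q_add]
    simp only [polarBilin_apply_apply]
    ring
  have hsing : ∀ f : V ≃ₗ[F] V, (∀ v, Q (f v) = Q v) →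
      ∀ x ∈ (f.toLinearMap).graph, Q x.1 + Q x.2 = 0 := by
    intro f hf x hx
    rw [LinearMap.mem_graph_iff] at hx
    rw [hx]
    show Q x.1 + Q (f x.1) = 0
    rw [hf, hadd]
  have hfi : ∀ v, Q (f.symm v) = Q v := fun v => by
    rw [← mem_O.1 hf (f.symm v), LinearEquiv.apply_symm_apply]
  have key := Cfsg.Agent.ClassicalGeometry.TwoFamilies.even_intersections (B := BB (polarBilin Q))
    (fun x => Q x.1 + Q x.2) hq' hnd hrefl m hfin
    (LinearMap.id (R := F) (M := V)).graph (f.symm.toLinearMap).graph (g.toLinearMap).graph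
    (finrank_graph _) (finrank_graph _) (finrank_graph _)
    (fun x hx => by
      rw [LinearMap.mem_graph_iff] at hx
      show Q x.1 + Q x.2 = 0
      rw [hx]
      exact hadd _)
    (hsing f.symm hfi) (hsing g (mem_O.1 hg))
  rw [finrank_graph_inf, finrank_graph_inf, finrank_graph_inf] at key
  have e1 : LinearMap.eqLocus (LinearMap.id (R := F) (M := V)) f.symm.toLinearMap = fixd f := by
    ext v
    show v = f.symm v ↔ f v = v
    constructor
    · intro h
      calc f v = f (f.symm v) := by rw [← h]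
        _ = v := f.apply_symm_apply v
    · intro h
      calc v = f.symm (f v) := (f.symm_apply_apply v).symm
        _ = f.symm v := by rw [h]
  have e2 : LinearMap.eqLocus f.symm.toLinearMap g.toLinearMap = fixd (f * g) := by
    ext v
    show f.symm v = g v ↔ f (g v) = v
    constructor
    · intro h; rw [← h]; exact f.apply_symm_apply v
    · intro h
      calc f.symm v = f.symm (f (g v)) := by rw [h]
        _ = g v := f.symm_apply_apply _
  have e3 : LinearMap.eqLocus (LinearMap.id (R := F) (M := V)) g.toLinearMap = fixd g := by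
    ext v
    show v = g v ↔ g v = v
    exact eq_comm
  rw [e1, e2, e3] at key
  have r1 := rk_add f
  have r2 := rk_add g
  have r3 := rk_add (f * g)
  have r4 := even_finrank h2 hQ
  rw [Nat.even_iff] at key r4 ⊢
  omega

/-- The Dickson invariant. -/
noncomputable def dick [FiniteDimensional F V] (h2 : (2 : F) = 0) (hQ : Nondeg Q) : O Q →* ℤˣ where
  toFun g := (-1) ^ rk (g : V ≃ₗ[F] V)
  map_one' := by
    have : rk ((1 : O Q) : V ≃ₗ[F] V) = 0 := by
      rw [rk, Submodule.finrank_eq_zero, LinearMap.range_eq_bot]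
      ext v
      rw [LinearMap.sub_apply]
      exact sub_self _
    rw [this, pow_zero]
  map_mul' f g := by
    have key := even_rk h2 hQ f.2 g.2
    rw [← pow_add]
    rcases Nat.even_or_odd (rk ((f * g : O Q) : V ≃ₗ[F] V)) with h1 | h1
    · have h3 : Even (rk (f : V ≃ₗ[F] V) + rk (g : V ≃ₗ[F] V)) := by
        have e : ((f * g : O Q) : V ≃ₗ[F] V) = (f : V ≃ₗ[F] V) * g := rfl
        rw [e] at h1
        rw [Nat.even_iff] at key h1 ⊢; omega
      rw [h1.neg_one_pow, h3.neg_one_pow]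
    · have h3 : Odd (rk (f : V ≃ₗ[F] V) + rk (g : V ≃ₗ[F] V)) := by
        have e : ((f * g : O Q) : V ≃ₗ[F] V) = (f : V ≃ₗ[F] V) * g := rfl
        rw [e] at h1
        rw [Nat.even_iff] at key; rw [Nat.odd_iff] at h1 ⊢; omega
      rw [h1.neg_one_pow, h3.neg_one_pow]

theorem dick_apply [FiniteDimensional F V] (h2 : (2 : F) = 0) (hQ : Nondeg Q) (g : O Q) :
    dick h2 hQ g = (-1) ^ rk (g : V ≃ₗ[F] V) := rfl

theorem dick_eq_one_iff [FiniteDimensional F V] (h2 : (2 : F) = 0) (hQ : Nondeg Q) (g : O Q) :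
    dick h2 hQ g = 1 ↔ Even (rk (g : V ≃ₗ[F] V)) := by
  rw [dick_apply, neg_one_pow_eq_one_iff_even (by decide)]

theorem rk_refl (hQ : Nondeg Q) {v : V} (hv : Q v ≠ 0) : rk (refl Q v hv) = 1 := by
  have hv0 : v ≠ 0 := by rintro rfl; exact hv (QuadraticMap.map_zero Q)
  have : LinearMap.range ((refl Q v hv : V →ₗ[F] V) - 1) = F ∙ v := by
    ext x
    rw [LinearMap.mem_range, Submodule.mem_span_singleton]
    constructor
    · rintro ⟨y, rfl⟩
      refine ⟨-((Q v)⁻¹ * polar Q v y), ?_⟩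
      rw [LinearMap.sub_apply, LinearEquiv.coe_coe, refl_apply, Module.End.one_apply]
      module
    · rintro ⟨c, rfl⟩
      obtain ⟨y, hy⟩ := hQ.exists_polar_eq hv0 (-c * Q v)
      refine ⟨y, ?_⟩
      rw [LinearMap.sub_apply, LinearEquiv.coe_coe, refl_apply, Module.End.one_apply, hy]
      have : (Q v)⁻¹ * (-c * Q v) = -c := by field_simp
      rw [this]
      module
  rw [rk, this, finrank_span_singleton hv0]

theorem dick_refl [FiniteDimensional F V] (h2 : (2 : F) = 0) (hQ : Nondeg Q) {v : V} (hv : Q v ≠ 0) :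
    dick h2 hQ ⟨refl Q v hv, refl_mem_O hv⟩ = -1 := by
  rw [dick_apply]
  show (-1 : ℤˣ) ^ rk (refl Q v hv) = -1
  rw [rk_refl hQ hv, pow_one]

/-- (F3) -/
theorem even_rk_of_mem [FiniteDimensional F V] (h2 : (2 : F) = 0) (hQ : Nondeg Q) {g : V ≃ₗ[F] V}
    (hg : g ∈ ⁅O Q, O Q⁆) : Even (rk g) :=
  (dick_eq_one_iff h2 hQ ⟨g, comm_le hg⟩).1 (hom_eq_one (dick h2 hQ) hg (comm_le hg))

theorem even_rk_siegel (hQ : Nondeg Q) {u w : V} (hu : Q u = 0) (hw : polar Q u w = 0) :
    Even (rk (siegel Q u w hu hw)) := by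
  by_cases hu0 : u = 0
  · have : siegel Q u w hu hw = 1 := by
      ext v
      rw [siegel_apply, hu0]
      simp
    rw [this, rk]
    have : LinearMap.range (((1 : V ≃ₗ[F] V) : V →ₗ[F] V) - 1) = ⊥ := by
      rw [LinearMap.range_eq_bot]
      ext v
      exact sub_self _
    rw [this, finrank_bot]
    exact Even.zero
  by_cases hwu : ∃ c : F, w = c • u
  · obtain ⟨c, hc⟩ := hwu
    have hQw : Q w = 0 := by rw [hc, QuadraticMap.map_smul, hu, smul_zero]
    have : siegel Q u w hu hw = 1 := by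
      ext v
      rw [siegel_apply, hQw, hc, polar_smul_left, smul_eq_mul]
      simp only [zero_mul, zero_smul, sub_zero, LinearEquiv.coe_one, id_eq]
      module
    rw [this, rk]
    have : LinearMap.range (((1 : V ≃ₗ[F] V) : V →ₗ[F] V) - 1) = ⊥ := by
      rw [LinearMap.range_eq_bot]
      ext v
      exact sub_self _
    rw [this, finrank_bot]
    exact Even.zero
  push Not at hwu
  have hN : ∀ v, ((siegel Q u w hu hw : V →ₗ[F] V) - 1) v =
      polar Q u v • w - polar Q w v • u - (Q w * polar Q u v) • u := by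
    intro v
    rw [LinearMap.sub_apply, LinearEquiv.coe_coe, siegel_apply, Module.End.one_apply]
    module
  have hr : LinearMap.range ((siegel Q u w hu hw : V →ₗ[F] V) - 1) = Submodule.span F {u, w} := by
    apply le_antisymm
    · rintro _ ⟨v, rfl⟩
      rw [hN]
      have h1 : u ∈ Submodule.span F {u, w} := Submodule.subset_span (by simp)
      have h2 : w ∈ Submodule.span F {u, w} := Submodule.subset_span (by simp)
      exact Submodule.sub_mem _ (Submodule.sub_mem _ (Submodule.smul_mem _ _ h2)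
        (Submodule.smul_mem _ _ h1)) (Submodule.smul_mem _ _ h1)
    · have h1 : u ∈ LinearMap.range ((siegel Q u w hu hw : V →ₗ[F] V) - 1) := by
        obtain ⟨y, hy, hy'⟩ := exists_sep hQ hwu
        refine ⟨-y, ?_⟩
        rw [hN, polar_neg_right, polar_neg_right, hy, hy']
        simp
      have h3 : ∀ c : F, u ≠ c • w := by
        rintro c hc
        have hc0 : c ≠ 0 := by rintro rfl; exact hu0 (by rw [hc, zero_smul])
        exact hwu c⁻¹ (by rw [hc, inv_smul_smul₀ hc0])
      have h2 : w ∈ LinearMap.range ((siegel Q u w hu hw : V →ₗ[F] V) - 1) := by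
        obtain ⟨y, hy, hy'⟩ := exists_sep hQ h3
        have h4 : ((siegel Q u w hu hw : V →ₗ[F] V) - 1) y = w - Q w • u := by
          rw [hN, hy, hy']
          simp
        have h5 := Submodule.add_mem _ (LinearMap.mem_range_self
          ((siegel Q u w hu hw : V →ₗ[F] V) - 1) y) (Submodule.smul_mem _ (Q w) h1)
        rw [h4, sub_add_cancel] at h5
        exact h5
      rw [Submodule.span_le]
      rintro x (rfl | rfl)
      · exact h1
      · exact h2
  have hli : LinearIndependent F ![u, w] := by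
    rw [LinearIndependent.pair_iff]
    intro s t hst
    by_cases ht : t = 0
    · subst ht
      rw [zero_smul, add_zero] at hst
      exact ⟨(smul_eq_zero.1 hst).resolve_right hu0, rfl⟩
    · exfalso
      apply hwu (-(t⁻¹ * s))
      have h1 : t • w = -(s • u) := eq_neg_of_add_eq_zero_right hst
      have h2 : w = t⁻¹ • (t • w) := by rw [inv_smul_smul₀ ht]
      rw [h2, h1, smul_neg, smul_smul, neg_smul]
  rw [rk, hr]
  have h6 := finrank_span_eq_card hli
  rw [Matrix.range_cons, Matrix.range_cons, Matrix.range_empty, Set.union_empty,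
    Set.singleton_union, Fintype.card_fin] at h6
  rw [h6]
  exact even_two

theorem dick_siegel [FiniteDimensional F V] (h2 : (2 : F) = 0) (hQ : Nondeg Q) {u w : V}
    (hu : Q u = 0) (hw : polar Q u w = 0) :
    dick h2 hQ ⟨siegel Q u w hu hw, siegel_mem_O hu hw⟩ = 1 :=
  (dick_eq_one_iff h2 hQ _).2 (even_rk_siegel hQ hu hw)

/-- An isometry `g` for which `(g - 1) V` is totally singular has even rank. -/
theorem even_rk_of_sing [FiniteDimensional F V] (hQ : Nondeg Q) {g : V ≃ₗ[F] V} (hg : g ∈ O Q)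
    (h : ∀ v, Q (g v - v) = 0) : Even (rk g) := by
  let N : V →ₗ[F] V := (g : V →ₗ[F] V) - 1
  have hN : ∀ v, N v = g v - v := fun v => rfl
  let B : LinearMap.BilinForm F V := (polarBilin Q) ∘ₗ N
  have hB : ∀ x y, B x y = polar Q (N x) y := fun x y => rfl
  have halt : B.IsAlt := by
    intro x
    show polar Q (N x) x = 0
    have h1 := mem_O.1 hg x
    have h2 : g x = x + N x := by rw [hN]; abel
    rw [h2, Q_add, hN, h, polar_comm] at h1
    rw [hN]
    linear_combination h1
  obtain ⟨m, hm⟩ := Cfsg.Agent.ClassicalGeometry.TwoFamilies.exists_finrank_eq_ker_add B halt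
  have hker : LinearMap.ker B = fixd g := by
    rw [← ker_sub_one]
    ext x
    rw [LinearMap.mem_ker, LinearMap.mem_ker]
    constructor
    · intro hx
      apply hQ
      intro y
      have : B x y = 0 := by rw [hx]; rfl
      exact this
    · intro hx
      ext y
      rw [hB]
      have : N x = 0 := hx
      rw [this, polar_zero_left]; rfl
  rw [hker] at hm
  have := rk_add g
  exact ⟨m, by omega⟩

/-! ### The model space -/

variable (n)

theorem MQ_right (b : Fin n → F) : MQ n Q ((0, 0, b) : M F V n) = 0 := by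
  rw [MQ_apply]; simp

variable {n}

theorem polar_right_mid (b : Fin n → F) (v : V) :
    polar (MQ n Q) ((0, 0, b) : M F V n) ((0, v, 0) : M F V n) = 0 := by
  rw [polar_MQ]; simp

/-- The Siegel element of `U⁻` attached to `f_i` and `v`: `e_i ↦ e_i + v - Q(v) f_i`. -/
theorem siegel_mem_Um (i : Fin n) (v : V) :
    siegel (MQ n Q) ((0, 0, Pi.single i 1) : M F V n) (0, v, 0) (MQ_right n _)
      (polar_right_mid _ v) ∈ Um n Q := by
  refine ⟨siegel_mem_O _ _, fun x => ?_, fun x hx => ?_, fun x hx hx' => ?_⟩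
  · rw [siegel_apply]
    simp
  · rw [siegel_apply, polar_MQ]
    simp [hx]
  · rw [siegel_apply, polar_MQ, polar_MQ]
    simp [hx, hx']

theorem siegel_Um_apply (i : Fin n) (v : V) (a : Fin n → F) :
    (siegel (MQ n Q) ((0, 0, Pi.single i 1) : M F V n) (0, v, 0) (MQ_right n _)
      (polar_right_mid _ v) (a, 0, 0)).2.1 = a i • v := by
  rw [siegel_apply, polar_MQ, polar_MQ]
  simp

/-- Multiplicativity of the middle component on `U⁻`. -/
theorem Um_mid_mul {u u' : M F V n ≃ₗ[F] M F V n} (hu : u ∈ Um n Q) (hu' : u' ∈ Um n Q)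
    (a : Fin n → F) : ((u * u') (a, 0, 0)).2.1 = (u (a, 0, 0)).2.1 + (u' (a, 0, 0)).2.1 := by
  have h1 : u' (a, 0, 0) = (a, 0, 0) + (0, (u' (a, 0, 0)).2.1, (u' (a, 0, 0)).2.2) := by
    refine Prod.ext ?_ (Prod.ext ?_ ?_)
    · rw [hu'.2.1]; simp
    · simp
    · simp
  rw [LinearEquiv.mul_apply]
  conv_lhs => rw [h1]
  rw [map_add, Prod.snd_add, Prod.fst_add]
  congr 1
  exact hu.2.2.1 _ rfl

theorem dick_Um [FiniteDimensional F V] (h2 : (2 : F) = 0) (hQ : Nondeg (MQ n Q))
    {u : M F V n ≃ₗ[F] M F V n} (hu : u ∈ Um n Q) : dick h2 hQ ⟨u, hu.1⟩ = 1 := by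
  classical
  -- a product of Siegel elements with the same middle part
  have key : ∀ s : Finset (Fin n), ∃ k : M F V n ≃ₗ[F] M F V n, ∃ hk : k ∈ Um n Q,
      dick h2 hQ ⟨k, hk.1⟩ = 1 ∧
      ∀ a : Fin n → F, (k (a, 0, 0)).2.1 = ∑ i ∈ s, a i • (u (Pi.single i 1, 0, 0)).2.1 := by
    intro s
    induction s using Finset.induction_on with
    | empty =>
      refine ⟨1, (Um n Q).one_mem, map_one _, fun a => ?_⟩
      simp
    | insert i s hi ih =>
      obtain ⟨k, hk, h1, h3⟩ := ih
      set v := (u (Pi.single i 1, 0, 0)).2.1 with hv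
      have h4 := siegel_mem_Um (Q := Q) i v
      refine ⟨_ * k, (Um n Q).mul_mem h4 hk, ?_, fun a => ?_⟩
      · have e : (⟨_ * k, ((Um n Q).mul_mem h4 hk).1⟩ : O (MQ n Q)) = ⟨_, h4.1⟩ * ⟨k, hk.1⟩ := rfl
        rw [e, map_mul, h1, mul_one]
        exact dick_siegel h2 hQ _ _
      · rw [Um_mid_mul h4 hk, siegel_Um_apply, h3, Finset.sum_insert hi]
  obtain ⟨k, hk, h1, h3⟩ := key Finset.univ
  have hkm : k⁻¹ * u ∈ Um n Q := (Um n Q).mul_mem ((Um n Q).inv_mem hk) hu
  have hmid : ∀ a : Fin n → F, ((k⁻¹ * u) (a, 0, 0)).2.1 = 0 := by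
    intro a
    have h5 := Um_mid_mul hk hkm a
    rw [mul_inv_cancel_left] at h5
    have h6 : (u (a, 0, 0)).2.1 = (k (a, 0, 0)).2.1 := by
      rw [h3]
      have h7 : ((a, 0, 0) : M F V n) = ∑ i, a i • ((Pi.single i 1, 0, 0) : M F V n) := by
        refine Prod.ext ?_ (Prod.ext ?_ ?_)
        · rw [Prod.fst_sum]
          simp only [Prod.smul_fst]
          exact (sum_single a).symm
        · rw [Prod.snd_sum, Prod.fst_sum]
          simp
        · rw [Prod.snd_sum, Prod.snd_sum]
          simp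
      rw [h7, map_sum, Prod.snd_sum, Prod.fst_sum]
      refine Finset.sum_congr rfl fun i _ => ?_
      rw [map_smul]; rfl
    rw [h6] at h5
    exact (left_eq_add.1 h5)
  have hd : dick h2 hQ ⟨k⁻¹ * u, hkm.1⟩ = 1 := by
    rw [dick_eq_one_iff]
    refine even_rk_of_sing hQ hkm.1 fun x => ?_
    have e1 : ((k⁻¹ * u) x - x).1 = 0 := by rw [Prod.fst_sub, hkm.2.1, sub_self]
    have e2 : ((k⁻¹ * u) x - x).2.1 = 0 := by
      have e3 : x = (x.1, 0, 0) + (0, x.2.1, x.2.2) := by
        refine Prod.ext ?_ (Prod.ext ?_ ?_) <;> simp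
      have e4 : ((k⁻¹ * u) x).2.1 = x.2.1 := by
        conv_lhs => rw [e3, map_add, Prod.snd_add, Prod.fst_add, hmid, zero_add,
          hkm.2.2.1 (0, x.2.1, x.2.2) rfl]
      rw [Prod.snd_sub, Prod.fst_sub, e4, sub_self]
    rw [MQ_apply', e1, e2]
    simp
  have e : (⟨u, hu.1⟩ : O (MQ n Q)) = ⟨k, hk.1⟩ * ⟨k⁻¹ * u, hkm.1⟩ :=
    Subtype.ext (mul_inv_cancel_left k u).symm
  rw [e, map_mul, h1, hd, one_mul]

/-! ### The swap -/

/-- `(a, v, b) ↦ (b, v, a)`. -/
def swp (F V : Type*) [Field F] [AddCommGroup V] [Module F V] (n : ℕ) : M F V n ≃ₗ[F] M F V n where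
  toFun := fun x => (x.2.2, x.2.1, x.1)
  invFun := fun x => (x.2.2, x.2.1, x.1)
  map_add' := fun x y => rfl
  map_smul' := fun c x => rfl
  left_inv := fun x => rfl
  right_inv := fun x => rfl

theorem swp_mem : swp F V n ∈ O (MQ n Q) := by
  intro x
  rw [MQ_apply', MQ_apply']
  show x.2.2 ⬝ᵥ x.1 + Q x.2.1 = _
  rw [dotProduct_comm]

theorem swp_conj_Up {u : M F V n ≃ₗ[F] M F V n} (hu : u ∈ Up n Q) :
    swp F V n * u * (swp F V n)⁻¹ ∈ Um n Q := by
  have e : ∀ x, (swp F V n * u * (swp F V n)⁻¹) x =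
      ((u (x.2.2, x.2.1, x.1)).2.2, (u (x.2.2, x.2.1, x.1)).2.1, (u (x.2.2, x.2.1, x.1)).1) :=
    fun x => rfl
  refine ⟨(O (MQ n Q)).mul_mem ((O (MQ n Q)).mul_mem swp_mem hu.1) ((O (MQ n Q)).inv_mem swp_mem),
    fun x => ?_, fun x hx => ?_, fun x hx hx' => ?_⟩
  · rw [e]
    exact hu.2.1 _
  · rw [e]
    exact hu.2.2.1 _ hx
  · rw [e, hu.2.2.2 (x.2.2, x.2.1, x.1) hx hx']

theorem dick_Up [FiniteDimensional F V] (h2 : (2 : F) = 0) (hQ : Nondeg (MQ n Q))
    {u : M F V n ≃ₗ[F] M F V n} (hu : u ∈ Up n Q) : dick h2 hQ ⟨u, hu.1⟩ = 1 := by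
  have h1 := dick_Um h2 hQ (swp_conj_Up hu)
  have e : (⟨swp F V n * u * (swp F V n)⁻¹, (swp_conj_Up hu).1⟩ : O (MQ n Q)) =
      ⟨swp F V n, swp_mem⟩ * ⟨u, hu.1⟩ * ⟨swp F V n, swp_mem⟩⁻¹ := rfl
  rw [e, map_mul, map_mul, map_inv, mul_comm (dick h2 hQ ⟨swp F V n, swp_mem⟩),
    mul_inv_cancel_right] at h1
  exact h1

/-! ### Levi elements -/

theorem dick_levGL [FiniteDimensional F V] (h2 : (2 : F) = 0) (hQ : Nondeg (MQ n Q))
    (A : GL (Fin n) F) : dick h2 hQ (levGL n Q A) = 1 := by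
  refine (hom_GL ((dick h2 hQ).comp (levGL n Q)) (fun _ => 1) (fun a b ha hb => rfl) ?_ ?_ A).trans
    rfl
  · intro g i j c hij hg
    show dick h2 hQ (levGL n Q g) = 1
    rw [dick_eq_one_iff]
    have hinv : ((g⁻¹ : GL (Fin n) F) : Matrix (Fin n) (Fin n) F) = transvection i j (-c) := by
      have e1 : (g : Matrix (Fin n) (Fin n) F) * transvection i j (-c) = 1 := by
        rw [hg, transvection_mul_transvection_same _ _ hij, add_neg_cancel, transvection_zero]
      calc ((g⁻¹ : GL (Fin n) F) : Matrix (Fin n) (Fin n) F)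
          = ((g⁻¹ : GL (Fin n) F) : Matrix (Fin n) (Fin n) F) *
              ((g : Matrix (Fin n) (Fin n) F) * transvection i j (-c)) := by rw [e1, mul_one]
        _ = transvection i j (-c) := by
            rw [← mul_assoc, ← Units.val_mul, inv_mul_cancel, Units.val_one, one_mul]
    refine even_rk_of_sing hQ (levGL n Q g).2 fun x => ?_
    have e2 : ((levGL n Q g : O (MQ n Q)) : M F V n ≃ₗ[F] M F V n) x - x =
        (Pi.single i (c * x.1 j), 0, Pi.single j (-c * x.2.2 i)) := by
      show lev g 1 x - x = _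
      rw [lev_apply, ti_coe, hinv, hg]
      refine Prod.ext ?_ (Prod.ext ?_ ?_)
      · rw [Prod.fst_sub]
        simp only [transvection, add_mulVec, one_mulVec, add_sub_cancel_left]
        ext k
        rw [single_mulVec]
        simp [Function.update_apply, Pi.single_apply]
      · rw [Prod.snd_sub, Prod.fst_sub]
        simp
      · rw [Prod.snd_sub, Prod.snd_sub]
        simp only [transvection, transpose_add, transpose_one, transpose_single, add_mulVec,
          one_mulVec, add_sub_cancel_left]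
        ext k
        rw [single_mulVec]
        simp [Function.update_apply, Pi.single_apply]
    rw [e2, MQ_apply]
    simp [Pi.single_apply, hij]
  · intro g i d hd hg
    have e1 : MQ n Q ((Pi.single i 1, 0, Pi.single i (-d⁻¹)) : M F V n) ≠ 0 := by
      rw [MQ_single]; exact neg_ne_zero.2 (inv_ne_zero hd)
    have e2 : MQ n Q ((Pi.single i 1, 0, Pi.single i (-1)) : M F V n) ≠ 0 := by
      rw [MQ_single]; exact neg_ne_zero.2 one_ne_zero
    have e3 : levGL n Q g = ⟨refl (MQ n Q) _ e1, refl_mem_O e1⟩ * ⟨refl (MQ n Q) _ e2, refl_mem_O e2⟩ :=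
      Subtype.ext (lev_single hd g hg e1 e2)
    show dick h2 hQ (levGL n Q g) = 1
    rw [e3, map_mul, dick_refl h2 hQ, dick_refl h2 hQ]
    rfl

theorem rk_levO (h : V ≃ₗ[F] V) : rk (lev (1 : GL (Fin n) F) h) = rk h := by
  let ι : V →ₗ[F] M F V n := LinearMap.inr F (Fin n → F) (V × (Fin n → F)) ∘ₗ
    LinearMap.inl F V (Fin n → F)
  have hι : Function.Injective ι := by
    intro x y hxy
    exact congrArg (fun z : M F V n => z.2.1) hxy
  have : LinearMap.range ((lev (1 : GL (Fin n) F) h : M F V n →ₗ[F] M F V n) - 1) =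
      (LinearMap.range ((h : V →ₗ[F] V) - 1)).map ι := by
    ext x
    constructor
    · rintro ⟨y, rfl⟩
      refine ⟨h y.2.1 - y.2.1, ⟨y.2.1, rfl⟩, ?_⟩
      rw [LinearMap.sub_apply, LinearEquiv.coe_coe, Module.End.one_apply, lev_apply, ti_one]
      simp only [Units.val_one, one_mulVec]
      refine Prod.ext ?_ (Prod.ext ?_ ?_)
      · simp [ι]
      · simp [ι]
      · simp [ι]
    · rintro ⟨_, ⟨y, rfl⟩, rfl⟩
      refine ⟨(0, y, 0), ?_⟩
      rw [LinearMap.sub_apply, LinearEquiv.coe_coe, Module.End.one_apply, lev_apply, ti_one]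
      simp only [Units.val_one, one_mulVec]
      refine Prod.ext ?_ (Prod.ext ?_ ?_)
      · simp [ι]
      · simp [ι]
      · simp [ι]
  rw [rk, this, rk]
  exact (Submodule.equivMapOfInjective ι hι _).finrank_eq.symm

/-- The block decomposition of an element of `Ω`, characteristic two: the middle part has even
rank. -/
theorem decomp_two [FiniteDimensional F V] (h2 : (2 : F) = 0) (hQ : Nondeg Q)
    {u₁ u₂ : M F V n ≃ₗ[F] M F V n} (hu₁ : u₁ ∈ Um n Q) (hu₂ : u₂ ∈ Up n Q) {A : GL (Fin n) F}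
    {g₁ : V ≃ₗ[F] V} (hg₁ : g₁ ∈ O Q)
    (h : u₁ * lev A g₁ * u₂ ∈ ⁅O (MQ n Q), O (MQ n Q)⁆) : Even (rk g₁) := by
  have hQ' : Nondeg (MQ n Q) := nondeg_MQ hQ
  have h1 := hom_eq_one (dick h2 hQ') h (comm_le h)
  have e : (⟨u₁ * lev A g₁ * u₂, comm_le h⟩ : O (MQ n Q)) =
      ⟨u₁, hu₁.1⟩ * ⟨lev A g₁, lev_mem hg₁⟩ * ⟨u₂, hu₂.1⟩ := rfl
  rw [e, map_mul, map_mul, dick_Um h2 hQ' hu₁, dick_Up h2 hQ' hu₂, one_mul, mul_one,
    lev_eq A hg₁, map_mul, dick_levGL h2 hQ', one_mul, dick_eq_one_iff] at h1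
  rw [← rk_levO (n := n)]
  exact h1

/-- (F3 for frames) -/
theorem frame_two [FiniteDimensional F V] (h2 : (2 : F) = 0) (hQ : Nondeg Q)
    {w w' : Fin n → V} (hf : Frame Q w w') {g : V ≃ₗ[F] V} (hg : g ∈ ⁅O Q, O Q⁆)
    {A : GL (Fin n) F} {u₁ u₂ : M F (perp Q w w') n ≃ₗ[F] M F (perp Q w w') n}
    (hu₁ : u₁ ∈ Um n (res Q w w')) (hu₂ : u₂ ∈ Up n (res Q w w'))
    {g₁ : perp Q w w' ≃ₗ[F] perp Q w w'} (hg₁ : g₁ ∈ O (res Q w w'))
    (h : hf.toModel.symm.trans (g.trans hf.toModel) = u₁ * lev A g₁ * u₂) : Even (rk g₁) := by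
  have h3 := conj_mem_comm hf.toModel hf.MQ_toModel hg
  rw [h] at h3
  exact decomp_two h2 (hf.nondeg_res hQ) hu₁ hu₂ hg₁ h3

end Cfsg.Agent.H141.SpinFacts
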